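import Groth.Agent.SGA3x.K197.RatNodes
import Groth.Agent.Sga3.H665.TorBcNA
import Groth.Agent.Sga3.H813.MaxTorDesc
import Groth.Agent.Sga3.H798.MaxTorCent
import Mathlib.AlgebraicGeometry.Morphisms.FlatMono

/-!
# The residue field of the classifying point of a maximal torus contained in a subgroup

`G` smooth affine over `k`, `H ⊆ G_{K'}` a subgroup over the extension `K'`, `F / K'` an extension such that the
maximal torus of `G_F` given by a point `x : Spec F ⟶ 𝒯` of the scheme of maximal tori of `G` lies in `H_F`.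
If `F` is the residue field of `x`, it is also the residue field of the point of the scheme of maximal tori of `H`
given by the same torus (`main : K197.Rat.N6_descent`).
-/

set_option autoImplicit false
universe u
open CategoryTheory CategoryTheory.Limits AlgebraicGeometry MonoidalCategory CartesianMonoidalCategory MonObj GrpObj

namespace K366.RatDesc

open Groth.Agent Groth.Agent.RedSub.H647.SubPt Groth.Agent.Sga3B
  Groth.Agent.Sga3B.MT Groth.Agent.Sga3B.BcPts Groth.Agent.Sga3.H665.Act Groth.Agent.Sga3B.RedIso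

section push

variable {S S' S'' : Scheme.{u}} {f : S'' ⟶ S'} {g : S' ⟶ S} {G : Over S} {H : Over S'}

/-- The points of a subgroup of `H_{S''}`, `H ⊆ G_{S'}`, considered as a subgroup of `G_{S''}`. -/
lemma pt_push (m : H ⟶ Red.bc g G) {T : Over S''} (t : T ⟶ Red.bc f H) {X : Scheme.{u}} (z : X ⟶ S'')
    (γ : X ⟶ G.left) : Pt (f := f ≫ g) (t ≫ bcSub f m) z γ ↔
      ∃ γ' : X ⟶ H.left, γ' ≫ m.left ≫ pullback.fst G.hom g = γ ∧ Pt t z γ' := by
  have h0 : (t ≫ bcSub f m).left ≫ pullback.fst G.hom (f ≫ g) =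
      (t.left ≫ pullback.fst H.hom f) ≫ m.left ≫ pullback.fst G.hom g := by
    rw [Over.comp_left, Category.assoc, bcSub_fst, Category.assoc]
  constructor
  · rintro ⟨p, h1, h2⟩
    rw [h0] at h2
    exact ⟨p ≫ t.left ≫ pullback.fst H.hom f, by rw [← h2]; simp only [Category.assoc], p, h1, rfl⟩
  · rintro ⟨γ', h1, p, h2, h3⟩
    refine ⟨p, h2, ?_⟩
    rw [h0, ← h1, ← h3]
    simp only [Category.assoc]

lemma mono_bcSub [GrpObj G] (m : H ⟶ Red.bc g G) [Mono m] : Mono (bcSub f m) := by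
  rw [bcSub_eq]
  have h1 : Mono ((Over.pullback f).map m) := inferInstance
  have h2 : IsIso (BcIso.bcCompIso f g G).symm.hom.hom.hom :=
    inferInstanceAs (IsIso (RedIso.und (BcIso.bcCompIso f g G).symm).hom)
  infer_instance

lemma isMonHom_bcSub [GrpObj G] [GrpObj H] (m : H ⟶ Red.bc g G) [IsMonHom m] : IsMonHom (bcSub f m) := by
  rw [bcSub_eq]
  infer_instance

end push

/-- Being a maximal torus depends only on the points of a subgroup. -/
theorem isMaximalTorus_of_samePt {S S' : Scheme.{u}} {f₁ f₂ : S' ⟶ S} (e : f₁ = f₂) {G : Over S} [GrpObj G]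
    {H₁ H₂ : Over S'} [GrpObj H₁] [GrpObj H₂] (h₁ : H₁ ⟶ Red.bc f₁ G) (h₂ : H₂ ⟶ Red.bc f₂ G)
    (hh : Red.IsMaximalTorus h₁) (hm : IsMonHom h₂) (hm' : Mono h₂)
    (hp : ∀ (X : Scheme.{u}) (y : X ⟶ S') (γ : X ⟶ G.left), Pt h₁ y γ ↔ Pt h₂ y γ) :
    Red.IsMaximalTorus h₂ := by
  subst e
  have h1 := hh.1
  have h2 := hh.2.1
  obtain ⟨i, hi⟩ := exists_grpIso_of_pt h₁ h₂ hp
  exact AlgBc.isMaximalTorus_of_arrow i (Iso.refl _) ((Category.comp_id _).trans hi.symm) hh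

/-- `(Over.pullback q).map` and `bcSub q` give the same subgroup. -/
theorem isMaximalTorus_pullback_of_bcSub {S S' S'' : Scheme.{u}} (q : S'' ⟶ S') {f : S' ⟶ S} {G : Over S} [GrpObj G]
    {H : Over S'} [GrpObj H] (h : H ⟶ Red.bc f G) (hh : Red.IsMaximalTorus (bcSub q h)) :
    Red.IsMaximalTorus ((Over.pullback q).map h) := by
  rw [bcSub_eq] at hh
  refine AlgBc.isMaximalTorus_of_arrow (Iso.refl _) (BcIso.bcCompIso q f G) ?_ hh
  have h1 : (BcIso.bcCompIso q f G).symm.hom.hom.hom ≫ (RedIso.und (BcIso.bcCompIso q f G)).hom = 𝟙 _ := by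
    have := Iso.inv_hom_id (RedIso.und (BcIso.bcCompIso q f G))
    exact this
  rw [Category.assoc, h1, Category.comp_id]
  exact (Category.id_comp _).symm

/-- A point of a scheme with values in a field which factors through a subfield is a residue field only if the
subfield is everything. -/
lemma isIso_of_isResidue {X : Scheme.{u}} {F : Type u} [Field F] {x : Spec (CommRingCat.of F) ⟶ X}
    (hx : K197.Rat.IsResidue x) {F' : Type u} [Field F'] (φ : CommRingCat.of F' ⟶ CommRingCat.of F)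
    (v : Spec (CommRingCat.of F') ⟶ X) (h : Spec.map φ ≫ v = x) : IsIso φ := by
  obtain ⟨p, e, rfl⟩ := hx
  have h1 : Mono (Spec.map φ) := by
    have h2 : Mono (Spec.map φ ≫ v) := by
      rw [h]
      infer_instance
    exact mono_of_mono _ v
  have h3 : Flat (Spec.map φ) := inferInstance
  have h4 : Surjective (Spec.map φ) := inferInstance
  have h5 : IsIso (Spec.map φ) := Flat.isIso_of_surjective_of_mono _
  have h6 : IsIso (Scheme.Spec.map φ.op) := h5
  have h7 : IsIso φ.op := isIso_of_reflects_iso φ.op Scheme.Spec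
  exact (isIso_op_iff φ).1 h7

/-- The statement for arbitrary morphisms `Spec F ⟶ Spec K' ⟶ S`. -/
theorem aux {S : Scheme.{u}} {K' F : Type u} [Field K'] [Field F] (f : Spec (CommRingCat.of F) ⟶ Spec (CommRingCat.of K'))
    (g : Spec (CommRingCat.of K') ⟶ S) (G : Over S) [GrpObj G] (hbcG : TorBc G)
    (𝒯 : Over S) (Tu : Over 𝒯.left) [GrpObj Tu]
    (iu : Tu ⟶ Red.bc 𝒯.hom G) (h𝒯 : SGA3x.RepresentsMaxTori G 𝒯 Tu iu)
    (H : Over (Spec (CommRingCat.of K'))) [GrpObj H] (hbcH : TorBc H)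
    (m : H ⟶ Red.bc g G) [IsMonHom m] [Mono m]
    (𝒯' : Over (Spec (CommRingCat.of K'))) (Tu' : Over 𝒯'.left) [GrpObj Tu']
    (iu' : Tu' ⟶ Red.bc 𝒯'.hom H) (h𝒯' : SGA3x.RepresentsMaxTori H 𝒯' Tu' iu')
    (x : Spec (CommRingCat.of F) ⟶ 𝒯.left) (hx : K197.Rat.IsResidue x) (hxf : x ≫ 𝒯.hom = f ≫ g)
    (s : (Red.bc x Tu).left ⟶ H.left) (hs : s ≫ H.hom = (Red.bc x Tu).hom ≫ f)
    (hs' : s ≫ m.left ≫ pullback.fst G.hom g =
      pullback.fst Tu.hom x ≫ iu.left ≫ pullback.fst G.hom 𝒯.hom) :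
    ∃ x' : Spec (CommRingCat.of F) ⟶ 𝒯'.left, K197.Rat.IsResidue x' ∧ x' ≫ 𝒯'.hom = f := by
  -- the torus of `G_F`, over the base `f ≫ g`
  obtain ⟨i₀, hi₀, hi₀'⟩ : ∃ i₀ : Red.bc x Tu ⟶ Red.bc (f ≫ g) G, Red.IsMaximalTorus i₀ ∧
      i₀.left ≫ pullback.fst G.hom (f ≫ g) = pullback.fst Tu.hom x ≫ iu.left ≫ pullback.fst G.hom 𝒯.hom := by
    rw [← hxf]
    exact ⟨bcSub x iu, Sga3.H665.Act.isMaximalTorus_bcSub hbcG x h𝒯.1, bcSub_fst _ _⟩
  have hi₀pt : ∀ (X : Scheme.{u}) (z : X ⟶ Spec (CommRingCat.of F)) (γ : X ⟶ G.left),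
      Pt i₀ z γ ↔ Pt iu (z ≫ x) γ := by
    intro X z γ
    rw [← pt_bcSub]
    constructor
    · rintro ⟨p, h1, h2⟩
      exact ⟨p, h1, by rw [bcSub_fst, ← hi₀', h2]⟩
    · rintro ⟨p, h1, h2⟩
      exact ⟨p, h1, by rw [hi₀', ← bcSub_fst, h2]⟩
  -- the torus as a subgroup of `H_F`
  let s' : Red.bc x Tu ⟶ Red.bc f H := Over.homMk (pullback.lift s (Red.bc x Tu).hom hs) (pullback.lift_snd _ _ _)
  have hs'1 : s'.left ≫ pullback.fst H.hom f = s := pullback.lift_fst _ _ _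
  have hpush : s' ≫ bcSub f m = i₀ := by
    apply Over.OverMorphism.ext
    apply pullback.hom_ext
    · rw [Over.comp_left, Category.assoc, bcSub_fst, reassoc_of% hs'1, hs', hi₀']
    · exact (Over.w (s' ≫ bcSub f m)).trans (Over.w i₀).symm
  have hm1 : IsMonHom (bcSub f m) := isMonHom_bcSub m
  have hm2 : Mono (bcSub f m) := mono_bcSub m
  have hs'max : Red.IsMaximalTorus s' :=
    Sga3.H798.MaxTorCent.isMaximalTorus_of_comp s' (bcSub f m) (by rw [hpush]; exact hi₀)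
  -- the classifying point
  obtain ⟨x', ⟨hx'1, hx'2⟩, -⟩ := existsUnique_point h𝒯' f (Red.bc x Tu) s' hs'max
  refine ⟨x', ?_, hx'1⟩
  -- its residue field
  obtain ⟨⟨p', φ⟩, hφ⟩ := (Scheme.SpecToEquivOfField F 𝒯'.left).symm.surjective x'
  have hφ' : Spec.map φ ≫ 𝒯'.left.fromSpecResidueField p' = x' := hφ
  let q : Spec (CommRingCat.of F) ⟶ Spec (𝒯'.left.residueField p') := Spec.map φ
  let r := 𝒯'.left.fromSpecResidueField p'
  have hqr : q ≫ r = x' := hφ'
  have ht' : Red.IsMaximalTorus (bcSub r iu') := Sga3.H665.Act.isMaximalTorus_bcSub hbcH r h𝒯'.1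
  have ht1 := ht'.1
  have ht2 := ht'.2.1
  have hm1' : IsMonHom (bcSub (r ≫ 𝒯'.hom) m) := isMonHom_bcSub m
  have hm2' : Mono (bcSub (r ≫ 𝒯'.hom) m) := mono_bcSub m
  let i₁ : Red.bc r Tu' ⟶ Red.bc ((r ≫ 𝒯'.hom) ≫ g) G := bcSub r iu' ≫ bcSub (r ≫ 𝒯'.hom) m
  have hi₁pt : ∀ (X : Scheme.{u}) (z : X ⟶ Spec (CommRingCat.of F)) (γ : X ⟶ G.left),
      Pt i₀ z γ ↔ Pt i₁ (z ≫ q) γ := by
    intro X z γ
    rw [← hpush, pt_push, pt_push]
    refine exists_congr fun γ' => and_congr_right fun _ => ?_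
    rw [hx'2, pt_bcSub, Category.assoc, hqr]
  have hbase : f ≫ g = q ≫ (r ≫ 𝒯'.hom) ≫ g := by
    rw [← hx'1, ← hqr]
    simp only [Category.assoc]
  have hi₁ : IsMonHom i₁ := inferInstance
  have hi₁' : Mono i₁ := inferInstance
  have hq1 : Flat q := inferInstance
  have hq2 : Surjective q := inferInstance
  have hi₁max : Red.IsMaximalTorus i₁ := by
    refine Sga3.H813.MaxTorDesc.isMaximalTorus_of_bc q ?_ i₁ hi₁ hi₁' ?_
    · intro U hU
      have : Subsingleton (Spec (𝒯'.left.residueField p')) := inferInstance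
      exact isOpen_discrete _
    · refine isMaximalTorus_pullback_of_bcSub q i₁ ?_
      refine isMaximalTorus_of_samePt hbase i₀ (bcSub q i₁) hi₀ (isMonHom_bcSub i₁) (mono_bcSub i₁) ?_
      intro X y γ
      rw [hi₁pt, pt_bcSub]
  -- descent of the classifying point of `G`
  obtain ⟨v, ⟨hv1, hv2⟩, -⟩ := existsUnique_point h𝒯 _ (Red.bc r Tu') i₁ hi₁max
  have hv : q ≫ v = x := by
    refine (existsUnique_point h𝒯 (f ≫ g) (Red.bc x Tu) i₀ hi₀).unique ⟨?_, ?_⟩ ⟨hxf, hi₀pt⟩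
    · rw [Category.assoc, hv1, hbase]
    · intro X z γ
      rw [hi₁pt, hv2, Category.assoc]
  have hiso : IsIso φ := isIso_of_isResidue hx φ v hv
  exact ⟨p', asIso φ, hφ'.symm⟩

/-- **The residue field of the classifying point of a torus contained in a subgroup.** -/
theorem main : K197.Rat.N6_descent.{u} := by
  intro k K' F _ _ _ _ _ _ _ G _ _ _ 𝒯 Tu _ iu h𝒯 H _ _ _ m _ _ 𝒯' Tu' _ iu' h𝒯' x hx hxk s hs hs'
  have hfg : K197.Rat.bs K' F ≫ K197.Rat.bs k K' = K197.Rat.bs k F := by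
    rw [← Spec.map_comp, ← CommRingCat.ofHom_comp, ← IsScalarTower.algebraMap_eq]
  exact aux (K197.Rat.bs K' F) (K197.Rat.bs k K') G (fun q => Sga3.H665.TorBcNA.torBc G q) 𝒯 Tu iu h𝒯 H
    (fun q => Sga3.H665.TorBcNA.torBc H q) m 𝒯' Tu' iu' h𝒯' x hx (hxk.trans hfg.symm) s hs hs'

end K366.RatDesc
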